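import Groth.Agent.S2289
import Groth.Agent.KFlatLib.PullTensor
import Groth.Agent.DCohRestrLib.RHomRestr
import Groth.Agent.DTenLib.Bounds
import Groth.Agent.TildeDerLib.Affine
import Groth.Agent.PerfDualLib.Derived
import Groth.Agent.DRingLib.KFlat
import Groth.Prelude.Def_DCoh2

/-!
# Derived tensor products of sheaves attached to complexes
-/

set_option autoImplicit false
set_option linter.all false
set_option backward.isDefEq.respectTransparency false
set_option backward.isDefEq.respectTransparency.types false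
set_option maxHeartbeats 1000000

universe u

open CategoryTheory CategoryTheory.Limits AlgebraicGeometry MonoidalCategory HomologicalComplex
open Groth.Agent DTen DTenLib
open Groth.Agent.S2289.aux

attribute [local instance] HasDerivedCategory.standard

noncomputable section

namespace AffDualLib

variable {R : CommRingCat.{u}}

theorem topEquiv_natural {M N : ModuleCat.{u} R} (f : M ⟶ N) (m : M) :
    ((tilde.functor R).map f).app ⊤ (topEquiv M m) = topEquiv N (f m) :=
  (congr($((tilde.toTildeΓNatIso (R := R)).hom.naturality f) m)).symm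

theorem homEquiv_comp (M N : ModuleCat.{u} R) :
    (tilde.adjunction (R := R)).homEquiv (Q M N) (KFlatLib.tens (td M) (td N)) (Groth.Agent.S2289.aux.comp M N) =
      ((ModuleCat.ofHom (pairLin M N) : Q M N ⟶ ModuleCat.of R Γ(KFlatLib.tens (td M) (td N), ⊤)) :) :=
  Equiv.apply_symm_apply _ _

theorem comp_natural_left {M M' : ModuleCat.{u} R} (f : M ⟶ M') (N : ModuleCat.{u} R) :
    comp M N ≫ ((DCoh.tensorBi (X := Spec R)).map ((tilde.functor R).map f)).app (td N) =
      (tilde.functor R).map (f ▷ N : Q M N ⟶ Q M' N) ≫ comp M' N := by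
  apply ((tilde.adjunction (R := R)).homEquiv _ _).injective
  rw [Adjunction.homEquiv_naturality_right, Adjunction.homEquiv_naturality_left]
  rw [homEquiv_comp]
  refine Eq.trans ?_ (congrArg ((f ▷ N : Q M N ⟶ Q M' N) ≫ ·) (homEquiv_comp M' N).symm)
  refine ModuleCat.MonoidalCategory.tensor_ext (M₁ := M) (M₂ := N) fun m n => ?_
  show (((DCoh.tensorBi (X := Spec R)).map ((tilde.functor R).map f)).app (td N)).app ⊤
      (KFlatLib.shTm (topEquiv M m) (topEquiv N n)) = KFlatLib.shTm (topEquiv M' (f m)) (topEquiv N n)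
  rw [KFlatLib.tensorBi_map₁_shTm, topEquiv_natural]

theorem comp_natural_right (M : ModuleCat.{u} R) {N N' : ModuleCat.{u} R} (g : N ⟶ N') :
    comp M N ≫ ((DCoh.tensorBi (X := Spec R)).obj (td M)).map ((tilde.functor R).map g) =
      (tilde.functor R).map (M ◁ g : Q M N ⟶ Q M N') ≫ comp M N' := by
  apply ((tilde.adjunction (R := R)).homEquiv _ _).injective
  rw [Adjunction.homEquiv_naturality_right, Adjunction.homEquiv_naturality_left]
  rw [homEquiv_comp]
  refine Eq.trans ?_ (congrArg ((M ◁ g : Q M N ⟶ Q M N') ≫ ·) (homEquiv_comp M N').symm)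
  refine ModuleCat.MonoidalCategory.tensor_ext (M₁ := M) (M₂ := N) fun m n => ?_
  show (((DCoh.tensorBi (X := Spec R)).obj (td M)).map ((tilde.functor R).map g)).app ⊤
      (KFlatLib.shTm (topEquiv M m) (topEquiv N n)) = KFlatLib.shTm (topEquiv M m) (topEquiv N' (g n))
  rw [KFlatLib.tensorBi_map₂_shTm, topEquiv_natural]

/-- `M~ ⊗ N~ ≅ (M ⊗ N)~`. -/
def tensTildeIso (M N : ModuleCat.{u} R) :
    ((DCoh.tensorBi (X := Spec R)).obj ((tilde.functor R).obj M)).obj ((tilde.functor R).obj N) ≅
      (tilde.functor R).obj (((curriedTensor (ModuleCat.{u} R)).obj M).obj N) :=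
  haveI : IsIso (comp M N) := FiltSectLib.isIso_of_stalks (comp M N) fun x =>
    (ConcreteCategory.isIso_iff_bijective _).2 (bijective_comp M N x)
  (asIso (comp M N)).symm

variable (A : Type u) [CommRing A] [PreservesFiniteLimits (tilde.functor (CommRingCat.of A))]

instance : (tilde.functor (CommRingCat.of A)).Additive :=
  instAdditiveModuleCatCarrierModulesSpecOfFunctor (R := CommRingCat.of A)

/-- Tilde on complexes. -/
abbrev tC : DRing.Cx A ⥤ CochainComplex (Spec (CommRingCat.of A)).Modules ℤ :=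
  (tilde.functor (CommRingCat.of A)).mapHomologicalComplex (ComplexShape.up ℤ)

/-- Tensoring with a complex. -/
abbrev tRA (K : DRing.Cx A) : DRing.Cx A ⥤ DRing.Cx A :=
  (curriedTensor (ModuleCat.{u} A)).map₂CochainComplex.flip.obj K

/-- `(P ⊗ K)~ ≅ P~ ⊗ K~`, naturally in `P`. -/
def tildeTensorIso (K : DRing.Cx A) :
    tRA A K ⋙ tC A ≅ tC A ⋙ TensorAssocLib.tR ((tC A).obj K) :=
  have : PreservesColimitsOfSize.{0, 0} (tilde.functor (CommRingCat.of A)) :=
    (tilde.adjunction (R := CommRingCat.of A)).leftAdjoint_preservesColimits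
  (DCohRestrLib.totalNatIso (curriedTensor (ModuleCat.{u} A)) (DCoh.tensorBi (X := Spec (CommRingCat.of A)))
    (tilde.functor (CommRingCat.of A)) (fun M N => tensTildeIso (R := CommRingCat.of A) M N)
    (fun {M M'} f N => by
      haveI : IsIso (comp (R := CommRingCat.of A) M N) := FiltSectLib.isIso_of_stalks _ fun x =>
        (ConcreteCategory.isIso_iff_bijective _).2 (bijective_comp _ _ x)
      haveI : IsIso (comp (R := CommRingCat.of A) M' N) := FiltSectLib.isIso_of_stalks _ fun x =>
        (ConcreteCategory.isIso_iff_bijective _).2 (bijective_comp _ _ x)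
      refine (IsIso.comp_inv_eq (comp (R := CommRingCat.of A) M' N)).2 ((IsIso.eq_inv_comp _).2 ?_ |>.trans (Category.assoc _ _ _).symm)
      exact comp_natural_left (R := CommRingCat.of A) f N)
    (fun M {N N'} g => by
      haveI : IsIso (comp (R := CommRingCat.of A) M N) := FiltSectLib.isIso_of_stalks _ fun x =>
        (ConcreteCategory.isIso_iff_bijective _).2 (bijective_comp _ _ x)
      haveI : IsIso (comp (R := CommRingCat.of A) M N') := FiltSectLib.isIso_of_stalks _ fun x =>
        (ConcreteCategory.isIso_iff_bijective _).2 (bijective_comp _ _ x)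
      refine (IsIso.comp_inv_eq (comp (R := CommRingCat.of A) M N')).2 ((IsIso.eq_inv_comp _).2 ?_ |>.trans (Category.assoc _ _ _).symm)
      exact comp_natural_right (R := CommRingCat.of A) M g)
    K).symm

variable [HasLTen A]

/-- The comparison of derived tensor products on complexes. -/
def εR (K : DRing.Cx A) :
    DerivedCategory.Q ⋙ tensorRightD A (DerivedCategory.Q.obj K) ⟶ tRA A K ⋙ DerivedCategory.Q :=
  εRight A K

theorem nonempty_tilde_lTensor (K : DRing.Cx A) (E : CochainComplex (Spec (CommRingCat.of A)).Modules ℤ)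
    [DCoh.HasLTensorCx E] (hE : Nonempty (DerivedCategory.Q.obj E ≅ DerivedCategory.Q.obj ((tC A).obj K))) :
    Nonempty (DCoh.tildeD (CommRingCat.of A) ⋙ DCoh.LTensorCx E ≅
      tensorRightD A (DerivedCategory.Q.obj K) ⋙ DCoh.tildeD (CommRingCat.of A)) := by
  obtain ⟨eE⟩ := hE
  haveI := TildeDerLib.preservesFiniteColimits_tilde (CommRingCat.of A)
  let W := HomologicalComplex.quasiIso (ModuleCat.{u} A) (ComplexShape.up ℤ)
  haveI := KFlatLib.hasLTensorCx ((tC A).obj K)
  obtain ⟨ω⟩ : Nonempty (DCoh.LTensorCx E ≅ DCoh.LTensorCx ((tC A).obj K)) := by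
    obtain ⟨P, s, hs, g, hg⟩ := DerivedCategory.right_fac eE.hom
    haveI : QuasiIso s := (DerivedCategory.isIso_Q_map_iff_quasiIso _ s).1 hs
    haveI : IsIso (DerivedCategory.Q.map g) := by
      haveI : IsIso (inv (DerivedCategory.Q.map s) ≫ DerivedCategory.Q.map g) := hg ▸ inferInstance
      exact IsIso.of_isIso_comp_left (inv (DerivedCategory.Q.map s)) _
    haveI : QuasiIso g := (DerivedCategory.isIso_Q_map_iff_quasiIso _ g).1 inferInstance
    haveI := KFlatLib.hasLTensorCx P
    obtain ⟨ω₁⟩ := PerfDualLib.nonempty_lTensor_congr s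
    obtain ⟨ω₂⟩ := PerfDualLib.nonempty_lTensor_congr g
    exact ⟨ω₁.symm ≪≫ ω₂⟩
  let fac := (tilde.functor (CommRingCat.of A)).mapDerivedCategoryFactors
  let cA := DCohRestrLib.absA fac (εR A K)
  let cB := DCohRestrLib.absB fac (TensorAssocLib.cnt ((tC A).obj K)) (tildeTensorIso A K)
  let Φ : ∀ (G : Dual.D A ⥤ DCoh.D (Spec (CommRingCat.of A)))
      (c : DerivedCategory.Q ⋙ G ⟶ tRA A K ⋙ tC A ⋙ DerivedCategory.Q)
      (_ : ∀ {P : DRing.Cx A}, DRing.IsKFlat A P → IsIso (c.app P)),
      DerivedCategory.Q ⋙ G ≅ DRingLib.resP A ⋙ tRA A K ⋙ tC A ⋙ DerivedCategory.Q := fun G c hc =>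
    NatIso.ofComponents (fun P =>
        haveI : QuasiIso ((DRingLib.resψ A).app P) := DRingLib.quasiIso_resψ P
        haveI := hc (DRingLib.good_resP P).1
        haveI : IsIso (DerivedCategory.Q.map ((DRingLib.resψ A).app P)) := inferInstance
        (asIso (G.map (DerivedCategory.Q.map ((DRingLib.resψ A).app P)))).symm ≪≫
          asIso (c.app ((DRingLib.resP A).obj P)))
      (fun {P Q} g => by
        haveI : QuasiIso ((DRingLib.resψ A).app P) := DRingLib.quasiIso_resψ P
        haveI : QuasiIso ((DRingLib.resψ A).app Q) := DRingLib.quasiIso_resψ Q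
        have h1 := c.naturality ((DRingLib.resP A).map g)
        have h2 : G.map (DerivedCategory.Q.map ((DRingLib.resP A).map g)) ≫
            G.map (DerivedCategory.Q.map ((DRingLib.resψ A).app Q)) =
            G.map (DerivedCategory.Q.map ((DRingLib.resψ A).app P)) ≫ G.map (DerivedCategory.Q.map g) := by
          rw [← Functor.map_comp, ← Functor.map_comp, ← Functor.map_comp, ← Functor.map_comp]
          exact congrArg (fun m => G.map (DerivedCategory.Q.map m)) ((DRingLib.resψ A).naturality g)
        simp only [Iso.trans_hom, Iso.symm_hom, asIso_inv, asIso_hom, Functor.comp_map] at h1 h2 ⊢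
        rw [Category.assoc, ← h1, eq_comm, IsIso.inv_comp_eq, ← reassoc_of% h2, IsIso.hom_inv_id_assoc])
  have hA : ∀ {P : DRing.Cx A}, DRing.IsKFlat A P → IsIso (cA.app P) := fun {P} hP => by
    haveI : IsIso ((εR A K).app P) := isIso_ε (A := A) P K (Or.inl hP)
    exact DCohRestrLib.isIso_absA fac (εR A K) P
  have hB : ∀ {P : DRing.Cx A}, DRing.IsKFlat A P → IsIso (cB.app P) := fun {P} hP => by
    haveI := TensorAssocLib.isIso_cnt_of_kFlat ((tC A).obj K) _ (KFlatLib.isKFlat_tilde (R := CommRingCat.of A) hP)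
    exact DCohRestrLib.isIso_absB fac (TensorAssocLib.cnt ((tC A).obj K)) (tildeTensorIso A K) P
  let e := Φ _ cB hB ≪≫ (Φ _ cA hA).symm
  exact ⟨Functor.isoWhiskerLeft _ ω ≪≫
    ((Localization.whiskeringLeftFunctor' DerivedCategory.Q W _).preimageIso e :)⟩

end AffDualLib
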