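import Groth.Agent.AffDualLib.QCoh
import Groth.Agent.AffDualLib.TildeTensor
import Groth.Agent.RHomCompLib.Compare
import Groth.Agent.DualCxLib.Biduality

/-!
# Affine duality
-/

set_option autoImplicit false
set_option linter.all false
set_option backward.isDefEq.respectTransparency false
set_option backward.isDefEq.respectTransparency.types false
set_option maxHeartbeats 1000000

universe u

open CategoryTheory CategoryTheory.Limits AlgebraicGeometry HomologicalComplex
open Groth.Agent Groth.Agent.DerLib Groth.Agent.PerfDualLib DTen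

attribute [local instance] HasDerivedCategory.standard

noncomputable section

namespace AffDualLib

theorem nonempty_affine_duality (A : Type u) [CommRing A] [IsNoetherianRing A]
    [PreservesFiniteLimits (tilde.functor (CommRingCat.of A))] (K : DRing.Cx A)
    (hK : ∀ i : ℤ, Module.Finite A (Dual.HD A (DRing.toD K) i)) [DRing.HasRHomCx K]
    (L : Dual.D A) (hL : DRing.HasFiniteInjDim A L)
    (E : CochainComplex (Spec (CommRingCat.of A)).Modules ℤ)
    (hE : Nonempty (DCoh.toD (Spec (CommRingCat.of A)) E ≅ (DCoh.tildeD (CommRingCat.of A)).obj (DRing.toD K)))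
    [DCoh.HasLTensorCx E] [DCoh.HasRSheafHom E] :
    Nonempty ((DCoh.RSheafHom E).obj ((DCoh.tildeD (CommRingCat.of A)).obj L) ≅
      (DCoh.tildeD (CommRingCat.of A)).obj ((DRing.RHomCx K).obj L)) := by
  obtain ⟨a, b, J, hJ, hinj, ⟨eJ⟩⟩ := hL
  obtain ⟨_, _, _, _⟩ := DualCxLib.exists_binders A
  let fac := (tilde.functor (CommRingCat.of A)).mapDerivedCategoryFactors
  let T := DCoh.tildeD (CommRingCat.of A)
  obtain ⟨eE⟩ := hE
  let eE' : DerivedCategory.Q.obj E ≅ DerivedCategory.Q.obj ((tA A).obj K) := eE ≪≫ fac.app K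
  obtain ⟨τ⟩ := nonempty_tilde_lTensor A K E ⟨eE'⟩
  let adj₁ := (TildeDerLib.adjD (CommRingCat.of A)).comp (DCoh.RSheafHomAdj E)
  let adj₂ := (rhomAdj A (DerivedCategory.Q.obj K)).comp (TildeDerLib.adjD (CommRingCat.of A))
  let ρ := (conjugateIsoEquiv adj₁ adj₂).toFun τ.symm
  let R := (DCoh.RSheafHom E).obj (T.obj L)
  have hR : DCoh.IsQCohD R := by
    haveI : ∀ n, Injective (((tA A).obj J).X n) := fun n =>
      haveI := hinj n
      InjModLib.injective_tilde (R := CommRingCat.of A) (J.X n)
    haveI : ((tA A).obj J).IsStrictlyGE a := (CochainComplex.isStrictlyGE_iff _ a).2 fun n hn =>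
      (tilde.functor (CommRingCat.of A)).map_isZero (hJ n (Or.inl hn))
    haveI : ((tA A).obj J).IsKInjective := CochainComplex.isKInjective_of_injective _ a
    obtain ⟨e₁⟩ := PerfDualLib.nonempty_rSheafHom_iso E ((tA A).obj J) (L := T.obj L)
      ((fac.app J).symm ≪≫ T.mapIso eJ)
    obtain ⟨e₂⟩ := PerfDualLib.nonempty_iG_congr eE' ((tA A).obj J)
    refine KFlatLib.isQCohD_iso (e₁ ≪≫ e₂).symm (isQCohD_iG K J (fun j => ?_) a b hJ hinj)
    haveI : Module.Finite A ((DerivedCategory.Q ⋙ DerivedCategory.homologyFunctor (ModuleCat.{u} A) j).obj K) := hK j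
    exact Module.Finite.equiv ((DerivedCategory.homologyFunctorFactors (ModuleCat.{u} A) j).app K).toLinearEquiv
  obtain ⟨χ⟩ := RHomCompLib.nonempty_RHomCx_iso K
  haveI := TildeDerLib.isIso_counit (CommRingCat.of A) hR
  haveI := TildeDerLib.isIso_unit (R := CommRingCat.of A)
  haveI : IsIso ((TildeDerLib.adjD (CommRingCat.of A)).unit.app L) := inferInstance
  exact ⟨(asIso ((TildeDerLib.adjD (CommRingCat.of A)).counit.app R)).symm ≪≫
    T.mapIso (ρ.app (T.obj L) ≪≫
      (RHomR A (DerivedCategory.Q.obj K)).mapIso (asIso ((TildeDerLib.adjD (CommRingCat.of A)).unit.app L)).symm ≪≫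
      (χ.app L).symm)⟩

end AffDualLib
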