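import Groth.Agent.PerfDualLib.PseudoC
import Groth.Agent.TildePCLib.Main
import Groth.Agent.InjModLib.TildeInj
import Groth.Agent.DRingLib.PCohMore
import Mathlib.Algebra.Homology.Double

/-!
# Internal homs into a bounded complex of injectives on an affine scheme
-/

set_option autoImplicit false
set_option linter.all false
set_option backward.isDefEq.respectTransparency false
set_option backward.isDefEq.respectTransparency.types false
set_option maxHeartbeats 1000000

universe u

open CategoryTheory CategoryTheory.Limits AlgebraicGeometry HomologicalComplex Pretriangulated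
open Groth.Agent Groth.Agent.DerLib Groth.Agent.PerfDualLib

attribute [local instance] HasDerivedCategory.standard

noncomputable section

namespace AffDualLib

section General

variable {X : Scheme.{u}}

theorem isZero_iG_X {C I : Cx X} {n b : ℤ} (hC : ∀ q, q < n → IsZero (C.X q))
    (hI : ∀ q, b < q → IsZero (I.X q)) (i : ℤ) (hi : b < i + n) : IsZero ((iG C I).X i) := by
  let M := (iG C I).X i
  have hrel : (ComplexShape.up ℤ).Rel i (i + 1) := rfl
  let φ : double (𝟙 M) hrel ⟶ iG C I :=
    mkHomFromDouble hrel (by omega) (𝟙 M) ((iG C I).d i (i + 1)) (by simp) (fun k hk => by simp)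
  have hadj : Gen.adjunct (T := Tb X) φ = 0 := HomologicalComplex.hom_ext _ _ fun j => by
    rcases lt_or_ge b j with hj | hj
    · exact (hI j hj).eq_of_tgt _ _
    · refine mapBifunctor.hom_ext fun p q hpq => ?_
      have hpq' : p + q = j := hpq
      refine IsZero.eq_of_src ?_ _ _
      by_cases hp : p = i ∨ p = i + 1
      · exact (((Tb X)).obj _).map_isZero (hC q (by omega))
      · push_neg at hp
        exact ((Tb X).flip.obj (C.X q)).map_isZero (isZero_double_X (𝟙 M) hrel p hp.1 hp.2)
  have hφ : φ = 0 := Gen.adjunct_injective (hadj.trans Gen.adjunct_zero.symm)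
  rw [IsZero.iff_id_eq_zero]
  have := congrArg (fun ψ => ψ.f i) hφ
  simp only [φ, mkHomFromDouble_f₀, zero_f, Category.comp_id] at this
  calc 𝟙 M = (doubleXIso₀ (𝟙 M) hrel).inv ≫ (doubleXIso₀ (𝟙 M) hrel).hom := (Iso.inv_hom_id _).symm
    _ = 0 := by rw [this, comp_zero]

end General

variable {A : Type u} [CommRing A] [IsNoetherianRing A] [PreservesFiniteLimits (tilde.functor (CommRingCat.of A))]

instance additive_tilde : (tilde.functor (CommRingCat.of A)).Additive :=
  instAdditiveModuleCatCarrierModulesSpecOfFunctor (R := CommRingCat.of A)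

/-- Tilde on complexes. -/
abbrev tA (A : Type u) [CommRing A] : DRing.Cx A ⥤ Cx (Spec (CommRingCat.of A)) :=
  (tilde.functor (CommRingCat.of A)).mapHomologicalComplex (ComplexShape.up ℤ)

theorem isPC_tA (P : DRing.Cx A) (b : ℤ) (hb : ∀ j, b < j → IsZero (P.homology j))
    (hfin : ∀ j, Module.Finite A (P.homology j)) (m : ℤ) :
    DCoh.IsPseudoCoherentD m (DerivedCategory.Q.obj ((tA A).obj P)) := by
  refine PerfLib.isPC_of_iso ((tilde.functor (CommRingCat.of A)).mapDerivedCategoryFactors.app P)
    (TildePCLib.isPC_tildeD (DRingLib.isPseudoCoherent_of_finite_noetherian (b := b) (fun j hj => ?_) fun j _ => ?_))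
  · exact (hb j hj).of_iso ((DerivedCategory.homologyFunctorFactors _ j).app P)
  · haveI : Module.Finite A ((homologyFunctor (ModuleCat.{u} A) (ComplexShape.up ℤ) j).obj P) := hfin j
    exact Module.Finite.equiv ((DerivedCategory.homologyFunctorFactors (ModuleCat.{u} A) j).app P).symm.toLinearEquiv

theorem isQCoh_homology_iG (P : DRing.Cx A) (b : ℤ) (hb : ∀ j, b < j → IsZero (P.homology j))
    (hfin : ∀ j, Module.Finite A (P.homology j)) (I : Cx (Spec (CommRingCat.of A))) [I.IsKInjective] (a : ℤ)
    [(DerivedCategory.Q.obj I).IsGE a] (hq : DCoh.IsQCohD (DerivedCategory.Q.obj I)) (i : ℤ) :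
    Coh.IsQCoh ((iG ((tA A).obj P) I).homology i) := by
  haveI := fun U : (Spec (CommRingCat.of A)).Opens => isWeakSerre_isQCoh (Y := (U : Scheme.{u}))
  have h : ∀ x, ∃ (U : (Spec (CommRingCat.of A)).Opens) (_ : x ∈ U),
      ∀ j, j < a - (a - i - 1) → Coh.IsQCoh (DCoh.HD (gRes U I ((tA A).obj P)) j) :=
    prop_gRes_of_isPC (fun U => fun M : (U : Scheme.{u}).Modules => Coh.IsQCoh M)
      (isPC_tA P b hb hfin (a - i - 1)) I a fun U => isQCohD_restrictD hq U
  choose U hU hqu using h
  haveI : Coh.IsQCoh (DCoh.HD (DerivedCategory.Q.obj (iG ((tA A).obj P) I)) i) :=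
    QCohLib.isQCoh_of_cover _ U (eq_top_iff.2 fun p _ => TopologicalSpace.Opens.mem_iSup.2 ⟨p, hU p⟩)
      fun p =>
        haveI := hqu p i (by omega)
        QCohLib.isQCoh_of_iso (DCohRestrLib.restrictHDIso (U p).ι _ i)
  exact @QCohLib.isQCoh_of_iso _ _ _ ((DerivedCategory.homologyFunctorFactors _ i).app _) ‹_›

theorem isQCohD_iG (K J : DRing.Cx A) (hK : ∀ j, Module.Finite A (K.homology j)) (a b : ℤ)
    (hJ : DRing.VanishesOutside J a b) (hinj : DRing.TermwiseInjective J) :
    DCoh.IsQCohD (DerivedCategory.Q.obj (iG ((tA A).obj K) ((tA A).obj J))) := by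
  let I := (tA A).obj J
  haveI : ∀ n, Injective (I.X n) := fun n =>
    haveI := hinj n
    InjModLib.injective_tilde (R := CommRingCat.of A) (J.X n)
  haveI : I.IsStrictlyGE a := (CochainComplex.isStrictlyGE_iff I a).2 fun n hn =>
    (tilde.functor (CommRingCat.of A)).map_isZero (hJ n (Or.inl hn))
  haveI : I.IsKInjective := CochainComplex.isKInjective_of_injective I a
  haveI : (DerivedCategory.Q.obj I).IsGE a := inferInstance
  have hIb : ∀ q, b < q → IsZero (I.X q) := fun q hq =>
    (tilde.functor (CommRingCat.of A)).map_isZero (hJ q (Or.inr hq))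
  have hq : DCoh.IsQCohD (DerivedCategory.Q.obj I) :=
    (TildeDerLib.isQCohD_iff (CommRingCat.of A) _).2
      ⟨_, ⟨(tilde.functor (CommRingCat.of A)).mapDerivedCategoryFactors.app J⟩⟩
  intro i
  let m : ℤ := b - i + 1
  let f := K.ιTruncLE m
  let S₀ := CochainComplex.mappingCone.triangleRotateShortComplex f
  let hS₀ : KFlatLib.DegSplit S₀ := CochainComplex.mappingCone.triangleRotateShortComplexSplitting f
  let S := S₀.map (tA A)
  let hS : KFlatLib.DegSplit S := fun n => (hS₀ n).map (tilde.functor (CommRingCat.of A))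
  have hG := Gen.shortExact_G (T := Tb (Spec (CommRingCat.of A))) hS I
  have hPb : ∀ j, m < j → IsZero ((K.truncLE m).X j) := fun j hj => (K.truncLE m).isZero_of_isStrictlyLE m j hj
  have hPfin : ∀ j, Module.Finite A ((K.truncLE m).homology j) := fun j => by
    by_cases hj : j ≤ m
    · haveI := CochainComplex.quasiIsoAt_ιTruncLE K m j hj
      haveI := hK j
      exact Module.Finite.equiv (asIso (homologyMap (K.ιTruncLE m) j)).symm.toLinearEquiv
    · haveI := ModuleCat.subsingleton_of_isZero ((exactAt_iff_isZero_homology _ _).1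
        (ExactAt.of_isZero (hPb j (by omega))))
      infer_instance
  -- the cone has no cohomology up to degree `m`
  haveI : S₀.X₂.IsGE (m + 1) := by
    rw [CochainComplex.isGE_iff]
    intro j hj
    rw [exactAt_iff_isZero_homology]
    obtain ⟨δ, hT⟩ : ∃ δ, Triangle.mk (DerivedCategory.Q.map f) (DerivedCategory.Q.map (CochainComplex.mappingCone.inr f)) δ ∈
        distinguishedTriangles :=
      ⟨_, DerivedCategory.mappingCone_triangle_distinguished f⟩
    have hfi : ∀ l, l ≤ m → IsIso ((DerivedCategory.homologyFunctor (ModuleCat.{u} A) l).map (DerivedCategory.Q.map f)) := fun l hl => by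
      haveI := CochainComplex.quasiIsoAt_ιTruncLE K m l hl
      exact (NatIso.isIso_map_iff (DerivedCategory.homologyFunctorFactors (ModuleCat.{u} A) l) f).2
          (inferInstanceAs (IsIso (homologyMap (K.ιTruncLE m) l)))
    have h1 : Mono ((DerivedCategory.homologyFunctor (ModuleCat.{u} A) (j + 1)).map (DerivedCategory.Q.map f)) := by
      by_cases hl : j + 1 ≤ m
      · haveI := hfi (j + 1) hl
        infer_instance
      · exact ⟨fun u v _ => ((((exactAt_iff_isZero_homology _ _).1 (ExactAt.of_isZero (hPb (j + 1) (by omega))))).of_iso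
          ((DerivedCategory.homologyFunctorFactors (ModuleCat.{u} A) (j + 1)).app _)).eq_of_tgt _ _⟩
    haveI := hfi j (by omega)
    refine IsZero.of_iso ?_ ((DerivedCategory.homologyFunctorFactors (ModuleCat.{u} A) j).app _).symm
    refine (DerivedCategory.HomologySequence.exact₃ _ hT j (j + 1) rfl).isZero_of_both_zeros ?_ ?_
    · exact (cancel_epi ((DerivedCategory.homologyFunctor (ModuleCat.{u} A) j).map (DerivedCategory.Q.map f))).1
        ((((DerivedCategory.homologyFunctor (ModuleCat.{u} A) j).map_comp _ _).symm.trans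
          ((congrArg ((DerivedCategory.homologyFunctor (ModuleCat.{u} A) j).map ·) (comp_distTriang_mor_zero₁₂ _ hT)).trans
            (Functor.map_zero _ _ _))).trans comp_zero.symm)
    · haveI := h1
      exact (cancel_mono ((DerivedCategory.homologyFunctor (ModuleCat.{u} A) (j + 1)).map (DerivedCategory.Q.map f))).1
        ((DerivedCategory.HomologySequence.δ_comp _ hT j (j + 1) rfl).trans zero_comp.symm)
  let t := (tA A).map (S₀.X₂.πTruncGE (m + 1))
  haveI : QuasiIso (S₀.X₂.πTruncGE (m + 1)) := (S₀.X₂.quasiIso_πTruncGE_iff (m + 1)).2 inferInstance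
  haveI : QuasiIso t := inferInstance
  haveI := quasiIso_gm t I
  have hcone : ∀ j, b < j + (m + 1) → IsZero ((iG S.X₂ I).homology j) := fun j hj =>
    ((exactAt_iff_isZero_homology _ _).1 (ExactAt.of_isZero (isZero_iG_X (n := m + 1)
      (fun q hq => (tilde.functor (CommRingCat.of A)).map_isZero
        ((S₀.X₂.truncGE (m + 1)).isZero_of_isStrictlyGE (m + 1) q hq)) hIb j hj))).of_iso
      (asIso (homologyMap (gm t I) j)).symm
  have hX3 : Coh.IsQCoh ((iG S.X₃ I).homology (i + 1)) := by
    refine isQCoh_homology_iG ((K.truncLE m)⟦(1 : ℤ)⟧) m (fun j hj => ?_) (fun j => ?_) I a hq (i + 1)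
    · exact ((exactAt_iff_isZero_homology _ _).1 (ExactAt.of_isZero (hPb (1 + j) (by omega)))).of_iso
        (((homologyFunctor (ModuleCat.{u} A) (ComplexShape.up ℤ) 0).shiftIso 1 j (1 + j) rfl).app (K.truncLE m))
    · haveI : Module.Finite A (((homologyFunctor (ModuleCat.{u} A) (ComplexShape.up ℤ) 0).shift (1 + j)).obj
          (K.truncLE m)) := hPfin (1 + j)
      exact Module.Finite.equiv (((homologyFunctor (ModuleCat.{u} A) (ComplexShape.up ℤ) 0).shiftIso 1 j (1 + j) rfl).app
        (K.truncLE m)).symm.toLinearEquiv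
  haveI : Coh.IsQCoh ((iG ((tA A).obj K) I).homology i) :=
    haveI := hX3
    QCohLib.isQCoh_of_iso (hG.δIso i (i + 1) rfl (hcone i (by omega)) (hcone (i + 1) (by omega))).symm
  exact @QCohLib.isQCoh_of_iso _ _ _ ((DerivedCategory.homologyFunctorFactors _ i).app _).symm ‹_›

end AffDualLib
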